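import Groth.Agent.TMul.GlobGen
import Groth.Agent.TildeKFlat.Main
import Groth.Agent.WeakAssLib.Basic
import Groth.Prelude.Def_FlatMod2
import Mathlib

/-!
Counting generators of a finite module from sections of `M~` generating over the members of an
open cover of `Spec R`.
-/

set_option autoImplicit false
set_option backward.isDefEq.respectTransparency false
set_option backward.isDefEq.respectTransparency.types false

universe u

open CategoryTheory CategoryTheory.Limits AlgebraicGeometry TopologicalSpace Opposite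
open Groth.Agent.QC Groth.Agent.WeakAssLib

noncomputable section

namespace Groth.Agent.GenCount

variable {R : CommRingCat.{u}} {M : ModuleCat.{u} R}

/-- `N` is everything near `p`. -/
def Good (N : Submodule R M) (p : PrimeSpectrum R) : Prop :=
  ∃ g ∉ p.asIdeal, ∀ m : M, g • m ∈ N

theorem good_of_mod [Module.Finite R M] {N : Submodule R M} {p : PrimeSpectrum R}
    (h : ∀ m : M, ∃ g ∉ p.asIdeal, g • m ∈ N ⊔ p.asIdeal • ⊤) : Good N p := by
  obtain ⟨n, t, ht⟩ := Module.Finite.exists_fin (R := R) (M := M)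
  choose g hg hgm using h
  set G := ∏ i, g (t i) with hG
  have hGp : G ∉ p.asIdeal := prod_mem (S := p.asIdeal.primeCompl) fun i _ => hg (t i)
  have hGm : ∀ m : M, G • m ∈ N ⊔ p.asIdeal • ⊤ := by
    intro m
    have hm : m ∈ Submodule.span R (Set.range t) := ht ▸ trivial
    induction hm using Submodule.span_induction with
    | mem y hy =>
      obtain ⟨i, rfl⟩ := hy
      rw [hG, ← Finset.prod_erase_mul _ _ (Finset.mem_univ i), mul_smul]
      exact Submodule.smul_mem _ _ (hgm _)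
    | zero => rw [smul_zero]; exact Submodule.zero_mem _
    | add a b _ _ ha hb => rw [smul_add]; exact Submodule.add_mem _ ha hb
    | smul c a _ ha => rw [smul_comm]; exact Submodule.smul_mem _ c ha
  have hr : LinearMap.range (algebraMap R (Module.End R (M ⧸ N)) G) ≤ p.asIdeal • ⊤ := by
    rintro _ ⟨q, rfl⟩
    obtain ⟨m, rfl⟩ := N.mkQ_surjective q
    have := Submodule.mem_map_of_mem (f := N.mkQ) (hGm m)
    rw [Submodule.map_sup, N.mkQ_map_self, bot_sup_eq, Submodule.map_smul'', Submodule.map_top,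
      Submodule.range_mkQ, map_smul] at this
    exact this
  obtain ⟨P, hP, -, hc, h0⟩ :=
    LinearMap.exists_monic_and_natDegree_eq_and_coeff_mem_pow_and_aeval_eq_zero (hI := hr)
  refine ⟨P.eval G, ?_, fun m => ?_⟩
  · rw [Polynomial.eval_eq_sum_range, Finset.sum_range_succ, hP.coeff_natDegree, one_mul]
    intro hmem
    have hs : (∑ i ∈ Finset.range P.natDegree, P.coeff i * G ^ i) ∈ p.asIdeal :=
      Ideal.sum_mem _ fun i hi => Ideal.mul_mem_right _ _
        (Ideal.pow_le_self (by have := Finset.mem_range.1 hi; omega) (hc i))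
    exact hGp (p.2.mem_of_pow_mem _ ((Ideal.add_mem_iff_right _ hs).1 hmem))
  · rw [Polynomial.aeval_algebraMap_apply, Polynomial.coe_aeval_eq_eval] at h0
    have := LinearMap.congr_fun h0 (N.mkQ m)
    rw [Module.algebraMap_end_apply, LinearMap.zero_apply, ← map_smul] at this
    exact (Submodule.Quotient.mk_eq_zero N).1 this

theorem mgerm_smulR {U : (Spec R).Opens} {p : Spec R} (hp : p ∈ U) (r : R) (t : Γ(tilde M, U)) :
    mgerm (tilde M) hp (r • t) = r • mgerm (tilde M) hp t := by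
  rw [Scheme.Modules.smul_Spec_def, mgerm_smul]
  refine congrArg (fun c => c • mgerm (tilde M) hp t) ?_
  show _ = TildeKFlat.toStalkRing p r
  rw [(Spec R).presheaf.germ_res_apply]
  rfl

theorem mgerm_toOpen {U : (Spec R).Opens} {p : Spec R} (hp : p ∈ U) (m : M) :
    mgerm (tilde M) hp ((tilde.toOpen M U).hom m) = (tilde.toStalk M p).hom m := by
  have h1 : res (tilde M) (le_top : U ≤ ⊤) ((tilde.toOpen M ⊤).hom m) = (tilde.toOpen M U).hom m :=
    rfl
  rw [← h1, mgerm_res]
  rfl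

theorem exists_smul_eq_toStalk {p : Spec R} {y : (tilde M).presheaf.stalk p}
    (hy : y ∈ p.asIdeal • (⊤ : Submodule R ((tilde M).presheaf.stalk p))) :
    ∃ h ∉ p.asIdeal, ∃ m ∈ p.asIdeal • (⊤ : Submodule R M),
      h • y = (tilde.toStalk M p).hom m := by
  induction hy using Submodule.smul_induction_on' with
  | smul r hr y _ =>
    obtain ⟨⟨m, h⟩, he⟩ := IsLocalizedModule.surj p.asIdeal.primeCompl (tilde.toStalk M p).hom y
    refine ⟨h, h.2, r • m, Submodule.smul_mem_smul hr trivial, ?_⟩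
    rw [map_smul, ← he, Submonoid.smul_def, smul_comm]
  | add a _ b _ ha hb =>
    obtain ⟨g, hg, m, hm, he⟩ := ha
    obtain ⟨g', hg', m', hm', he'⟩ := hb
    refine ⟨g * g', p.2.mul_notMem hg hg', g' • m + g • m',
      Submodule.add_mem _ (Submodule.smul_mem _ _ hm) (Submodule.smul_mem _ _ hm'), ?_⟩
    rw [map_add, map_smul, map_smul, ← he, ← he', smul_add, smul_smul, smul_smul, mul_comm g' g]

theorem exists_frac_family {p : Spec R} {n : ℕ} (c : Fin n → (Spec R).presheaf.stalk p) :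
    ∃ g ∉ p.asIdeal, ∃ r : Fin n → R, ∀ i,
      TildeKFlat.toStalkRing p g * c i = TildeKFlat.toStalkRing p (r i) := by
  letI : Algebra R ((Spec R).presheaf.stalk p) := (TildeKFlat.toStalkRing p).toAlgebra
  haveI : IsLocalization p.asIdeal.primeCompl ((Spec R).presheaf.stalk p) :=
    inferInstanceAs (IsLocalization.AtPrime
      ((AlgebraicGeometry.structurePresheafInCommRingCat R).stalk p) p.asIdeal)
  obtain ⟨g, hg⟩ := IsLocalization.exist_integer_multiples_of_finite p.asIdeal.primeCompl c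
  choose r hr using hg
  exact ⟨g, g.2, r, fun i => ((hr i).trans (Algebra.smul_def _ _)).symm⟩

variable {n : ℕ}

/-- Sections over `W ⊇ Z` are congruent along `Z` to global ones, modulo the maximal ideals. -/
theorem exists_approx {Z : Set (Spec R)} (hZ : IsClosed Z) {W : (Spec R).Opens}
    (hZW : Z ⊆ W) (s : Fin n → Γ(tilde M, W)) :
    ∃ x : Fin n → M, ∀ (i : Fin n) (p : Spec R) (hp : p ∈ Z),
      (tilde.toStalk M p).hom (x i) - mgerm (tilde M) (hZW hp) (s i) ∈
        p.asIdeal • (⊤ : Submodule R ((tilde M).presheaf.stalk p)) := by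
  classical
  have hb : ∀ z : Z, ∃ g : R, z.1 ∈ PrimeSpectrum.basicOpen g ∧
      (PrimeSpectrum.basicOpen g : (Spec R).Opens) ≤ W := fun z =>
    (PrimeSpectrum.isBasis_basic_opens.exists_subset_of_mem_open (hZW z.2) W.isOpen) |>.elim
      fun V hV => by
        obtain ⟨⟨O, ⟨g, rfl⟩, rfl⟩, hzV, hVW⟩ := hV
        exact ⟨g, hzV, hVW⟩
  choose g hzg hgW using hb
  obtain ⟨t, ht⟩ := hZ.isCompact.elim_finite_subcover
    (fun z : Z => (PrimeSpectrum.basicOpen (g z) : Set (PrimeSpectrum R)))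
    (fun z => (PrimeSpectrum.basicOpen (g z)).isOpen)
    (fun z hz => Set.mem_iUnion.2 ⟨⟨z, hz⟩, hzg _⟩)
  have hloc : ∀ (i : Fin n) (z : Z), ∃ (N : ℕ) (m : M), (tilde.toOpen M _).hom m =
      g z ^ N • res (tilde M) (hgW z) (s i) := by
    intro i z
    obtain ⟨⟨m, ⟨_, N, rfl⟩⟩, he⟩ := IsLocalizedModule.surj (Submonoid.powers (g z))
      (tilde.toOpen M (PrimeSpectrum.basicOpen (g z))).hom (res (tilde M) (hgW z) (s i))
    exact ⟨N, m, he.symm⟩
  choose N m hm using hloc
  let I := PrimeSpectrum.vanishingIdeal Z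
  have hone : ∀ i : Fin n, ∃ a : Z → R, 1 - ∑ z ∈ t, a z * g z ^ (N i z + 1) ∈ I := by
    intro i
    have htop : I ⊔ Ideal.span (Set.range fun z : t => g z.1 ^ (N i z.1 + 1)) = ⊤ := by
      by_contra hne
      obtain ⟨q, hq, hle⟩ := Ideal.exists_le_maximal _ hne
      let Q : PrimeSpectrum R := ⟨q, hq.isPrime⟩
      have hQ : Q ∈ Z := by
        rw [← hZ.closure_eq, ← PrimeSpectrum.zeroLocus_vanishingIdeal_eq_closure]
        exact fun r hr => hle (Ideal.mem_sup_left hr)
      obtain ⟨z, hzt, hzQ⟩ := Set.mem_iUnion₂.1 (ht hQ)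
      exact hzQ (hq.isPrime.mem_of_pow_mem _ (hle (Ideal.mem_sup_right
        (Ideal.subset_span ⟨⟨z, hzt⟩, rfl⟩))))
    obtain ⟨e, he, b, hb, hsum⟩ := Submodule.mem_sup.1 (show (1 : R) ∈
      I ⊔ Ideal.span (Set.range fun z : t => g z.1 ^ (N i z.1 + 1)) from htop ▸ trivial)
    obtain ⟨c, hc⟩ := (Ideal.mem_span_range_iff_exists_fun).1 hb
    refine ⟨fun z => if h : z ∈ t then c ⟨z, h⟩ else 0, ?_⟩
    have : ∑ z ∈ t, (if h : z ∈ t then c ⟨z, h⟩ else 0) * g z ^ (N i z + 1) = b := by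
      rw [← hc, ← Finset.sum_attach t, Finset.univ_eq_attach]
      exact Finset.sum_congr rfl fun z _ => by simp [z.2]
    rw [this, ← hsum, add_sub_cancel_right]
    exact he
  choose a ha using hone
  refine ⟨fun i => ∑ z ∈ t, (a i z * g z) • m i z, fun i p hp => ?_⟩
  have hp' : 1 - ∑ z ∈ t, a i z * g z ^ (N i z + 1) ∈ p.asIdeal :=
    (PrimeSpectrum.mem_vanishingIdeal _ _).1 (ha i) p hp
  set y := mgerm (tilde M) (hZW hp) (s i)
  let P := p.asIdeal • (⊤ : Submodule R ((tilde M).presheaf.stalk p))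
  have hterm : ∀ z ∈ t, (tilde.toStalk M p).hom ((a i z * g z) • m i z) -
      (a i z * g z ^ (N i z + 1)) • y ∈ P := by
    intro z _
    by_cases hgz : p ∈ (PrimeSpectrum.basicOpen (g z) : Opens (PrimeSpectrum R))
    · rw [map_smul, ← mgerm_toOpen (U := PrimeSpectrum.basicOpen (g z)) hgz, hm, mgerm_smulR,
        mgerm_res, smul_smul, mul_assoc, ← pow_succ', sub_self]
      exact Submodule.zero_mem _
    · have hgp : g z ∈ p.asIdeal := not_not.1 hgz
      refine Submodule.sub_mem _ ?_ ?_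
      · rw [map_smul]
        exact Submodule.smul_mem_smul (Ideal.mul_mem_left _ _ hgp) trivial
      · exact Submodule.smul_mem_smul
          (Ideal.mul_mem_left _ _ (Ideal.pow_mem_of_mem _ hgp _ (Nat.succ_pos _))) trivial
  have e : (tilde.toStalk M p).hom (∑ z ∈ t, (a i z * g z) • m i z) - y =
      ∑ z ∈ t, ((tilde.toStalk M p).hom ((a i z * g z) • m i z) -
        (a i z * g z ^ (N i z + 1)) • y) - (1 - ∑ z ∈ t, a i z * g z ^ (N i z + 1)) • y := by
    rw [map_sum, Finset.sum_sub_distrib, ← Finset.sum_smul, sub_smul, one_smul]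
    abel
  rw [e]
  exact Submodule.sub_mem _ (Submodule.sum_mem _ hterm) (Submodule.smul_mem_smul hp' trivial)

/-- Near every point of `W` the sections `s` generate. -/
def Gens {W : (Spec R).Opens} (s : Fin n → Γ(tilde M, W)) : Prop :=
  ∀ (p : Spec R) (hp : p ∈ W) (m : M), ∃ g ∉ p.asIdeal, ∃ r : Fin n → R,
    g • (tilde.toStalk M p).hom m = ∑ i, r i • mgerm (tilde M) hp (s i)

theorem exists_good [Module.Finite R M] {Z : Set (Spec R)} (hZ : IsClosed Z)
    {W : (Spec R).Opens} (hZW : Z ⊆ W) (s : Fin n → Γ(tilde M, W)) (hs : Gens s) :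
    ∃ x : Fin n → M, ∀ p ∈ Z, Good (Submodule.span R (Set.range x)) p := by
  obtain ⟨x, hx⟩ := exists_approx hZ hZW s
  refine ⟨x, fun p hp => good_of_mod fun m => ?_⟩
  obtain ⟨g, hg, r, hgr⟩ := hs p (hZW hp) m
  have hy : (tilde.toStalk M p).hom (g • m - ∑ i, r i • x i) ∈
      p.asIdeal • (⊤ : Submodule R ((tilde M).presheaf.stalk p)) := by
    rw [map_sub, map_smul, hgr, map_sum, ← Finset.sum_sub_distrib]
    refine Submodule.sum_mem _ fun i _ => ?_
    rw [map_smul, ← smul_sub, ← neg_sub, smul_neg]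
    exact Submodule.neg_mem _ (Submodule.smul_mem _ _ (hx i p hp))
  obtain ⟨h, hh, m', hm', he⟩ := exists_smul_eq_toStalk hy
  rw [← map_smul] at he
  obtain ⟨c, hc⟩ := (IsLocalizedModule.eq_iff_exists p.asIdeal.primeCompl _).1 he
  refine ⟨(c : R) * (h * g), p.2.mul_notMem c.2 (p.2.mul_notMem hh hg), ?_⟩
  have : ((c : R) * (h * g)) • m = (c : R) • (h • ∑ i, r i • x i) + (c : R) • m' := by
    rw [Submonoid.smul_def, Submonoid.smul_def] at hc
    rw [← hc, smul_sub h, mul_smul, mul_smul, smul_sub]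
    abel
  rw [this]
  exact Submodule.add_mem_sup (Submodule.smul_mem _ _ (Submodule.smul_mem _ _
    (Submodule.sum_mem _ fun i _ => Submodule.smul_mem _ _ (Submodule.subset_span ⟨i, rfl⟩))))
    (Submodule.smul_mem _ _ hm')

section Epi

variable {U : (Spec R).Opens}

/-- Reading a section of a restriction on the whole scheme. -/
def readSec {G : (U : Scheme.{u}).Modules} (φ : G ⟶ (tilde M).restrict U.ι)
    (A : (U : Scheme.{u}).Opens) (g : Γ(G, A)) : Γ(tilde M, U.ι ''ᵁ A) := φ.app A g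

theorem exists_gens (φ : FlatMod.freeMod (U : Scheme.{u}) n ⟶ (tilde M).restrict U.ι) [Epi φ] :
    ∃ (W : (Spec R).Opens), (U : Set (Spec R)) ⊆ W ∧ ∃ s : Fin n → Γ(tilde M, W), Gens s := by
  let O := Coh.structureModule (U : Scheme.{u})
  let ι : ∀ i : Fin n, O ⟶ FlatMod.freeMod (U : Scheme.{u}) n :=
    fun i => Sigma.ι (fun _ : Fin n => O) i
  let e : ∀ i : Fin n, Γ(FlatMod.freeMod (U : Scheme.{u}) n, ⊤) := fun i =>
    (ι i).app ⊤ (1 : Γ((U : Scheme.{u}), ⊤))
  let W : (Spec R).Opens := U.ι ''ᵁ ⊤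
  have hUW : (U : Set (Spec R)) ⊆ W := fun x hx => ⟨⟨x, hx⟩, trivial, rfl⟩
  refine ⟨W, hUW, fun i => readSec φ ⊤ (e i), fun p hp m => ?_⟩
  obtain ⟨q, -, rfl⟩ := hp
  obtain ⟨V, hV, hqV, c, hc⟩ := TMul.exists_app_eq_of_epi φ (U := ⊤)
    (x := q) (show Γ((tilde M).restrict U.ι, ⊤) from (tilde.toOpen M W).hom m) trivial
  let π : ∀ i : Fin n, FlatMod.freeMod (U : Scheme.{u}) n ⟶ O := fun i =>
    Sigma.desc fun j => if j = i then 𝟙 O else 0
  have hid : 𝟙 (FlatMod.freeMod (U : Scheme.{u}) n) = ∑ i, π i ≫ ι i := by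
    refine Sigma.hom_ext _ _ fun j => ?_
    rw [Preadditive.comp_sum, Category.comp_id, Finset.sum_eq_single j]
    · simp [π, ι, O]
    · intro i _ hi
      simp [π, Ne.symm hi]
    · intro h
      exact absurd (Finset.mem_univ j) h
  let d : Fin n → Γ((U : Scheme.{u}), V) := fun i => (π i).app V c
  have hdec : c = ∑ i, d i • res (FlatMod.freeMod (U : Scheme.{u}) n) hV (e i) := by
    have h1 : ((𝟙 (FlatMod.freeMod (U : Scheme.{u}) n) :) : _ ⟶ _).app V c = c := rfl
    conv_lhs => rw [← h1, hid]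
    let ev := AddMonoidHom.mk' (fun f : FlatMod.freeMod (U : Scheme.{u}) n ⟶
        FlatMod.freeMod (U : Scheme.{u}) n => f.app V c) (fun f f' => rfl)
    show ev (∑ i, π i ≫ ι i) = _
    rw [map_sum]
    refine Finset.sum_congr rfl fun i _ => ?_
    show (ι i).app V (d i) = _
    have hd : (show Γ(O, V) from d i) =
        d i • (show Γ(O, V) from (1 : Γ((U : Scheme.{u}), V))) := (mul_one (d i)).symm
    refine (congrArg (fun z => (ι i).app V z) hd).trans ((Scheme.Modules.Hom.app_smul (ι i) _ _).trans ?_)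
    show _ = d i • res _ hV ((ι i).app ⊤ _)
    rw [app_res]
    congr 2
  have hV' : U.ι ''ᵁ V ≤ W := U.ι.image_mono hV
  have hq : U.ι q ∈ U.ι ''ᵁ V := ⟨q, hqV, rfl⟩
  have hread : res (tilde M) hV' ((tilde.toOpen M W).hom m) =
      ∑ i, (show Γ(Spec R, U.ι ''ᵁ V) from d i) • res (tilde M) hV' (readSec φ ⊤ (e i)) := by
    refine Eq.trans (show _ = readSec φ V c from hc.symm) ?_
    rw [hdec]
    show φ.app V _ = _
    rw [map_sum]
    refine Finset.sum_congr rfl fun i _ => ?_
    rw [Scheme.Modules.Hom.app_smul]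
    have h1 := (tilde M).smul_restrictAppIso_hom_apply U.ι V (d i)
      (φ.app V (res (FlatMod.freeMod (U : Scheme.{u}) n) hV (e i)))
    rw [Scheme.Opens.ι_appIso] at h1
    refine Eq.trans h1 ?_
    refine congrArg (fun z => (show Γ(Spec R, U.ι ''ᵁ V) from d i) • z) ?_
    exact (app_res φ hV (e i)).symm
  have hg := congrArg (mgerm (tilde M) hq) hread
  rw [mgerm_res, mgerm_toOpen, map_sum] at hg
  obtain ⟨g, hg', r, hr⟩ := exists_frac_family fun i : Fin n =>
    ((Spec R).presheaf.germ (U.ι ''ᵁ V) (U.ι q) hq).hom (show Γ(Spec R, U.ι ''ᵁ V) from d i)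
  refine ⟨g, hg', r, ?_⟩
  refine ((congrArg (g • ·) hg).trans Finset.smul_sum).trans ?_
  refine Finset.sum_congr rfl fun i _ => ?_
  rw [mgerm_smul, mgerm_res]
  rw [TildeKFlat.smul_stalk, TildeKFlat.smul_stalk, smul_smul]
  exact congrArg (· • _) (hr i)

end Epi

theorem eq_top_of_good {N : Submodule R M} (hN : ∀ p, Good N p) : N = ⊤ := by
  refine eq_top_iff.2 fun m' _ => ?_
  by_contra hne
  obtain ⟨q, hq, hle⟩ := Ideal.exists_le_maximal
    (N.colon {m'}) (fun h => hne (by
      have := (Ideal.eq_top_iff_one _).1 h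
      simpa [Submodule.mem_colon_singleton] using this))
  obtain ⟨g, hg, hgN⟩ := hN ⟨q, hq.isPrime⟩
  exact hg (hle (Submodule.mem_colon_singleton.2 (hgN m')))

theorem exists_generators [Module.Finite R M] (m : ℕ) (U : Fin m → (Spec R).Opens)
    (hU : ⨆ i, U i = ⊤)
    (hgen : ∀ i, ∃ φ : FlatMod.freeMod (↑(U i)) n ⟶ (tilde M).restrict (U i).ι, Epi φ) :
    ∃ s : Fin (n * m) → M, Submodule.span R (Set.range s) = ⊤ := by
  have key : ∀ k, k ≤ m → ∀ C : Set (Spec R), IsClosed C →
      (∀ p ∈ C, ∃ i : Fin m, (i : ℕ) < k ∧ p ∈ U i) →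
      ∃ x : Fin (n * k) → M, ∀ p ∈ C, Good (Submodule.span R (Set.range x)) p := by
    intro k
    induction k with
    | zero =>
      intro _ C _ h
      exact ⟨fun _ => 0, fun p hp => by obtain ⟨i, hi, -⟩ := h p hp; exact absurd hi (Nat.not_lt_zero _)⟩
    | succ k ih =>
      intro hk C hC h
      let i₀ : Fin m := ⟨k, hk⟩
      let Z := C \ ⋃ i ∈ {i : Fin m | (i : ℕ) < k}, (U i : Set (Spec R))
      have hZ : IsClosed Z := hC.sdiff (isOpen_biUnion fun i _ => (U i).isOpen)
      have hZU : Z ⊆ U i₀ := by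
        rintro p ⟨hpC, hp⟩
        obtain ⟨i, hi, hpi⟩ := h p hpC
        rcases Nat.lt_or_eq_of_le (Nat.le_of_lt_succ hi) with hlt | heq
        · exact absurd (Set.mem_biUnion (show i ∈ {i : Fin m | (i : ℕ) < k} from hlt) hpi) hp
        · rwa [show i₀ = i from Fin.ext heq.symm]
      obtain ⟨φ, hφ⟩ := hgen i₀
      obtain ⟨W, hUW, s, hs⟩ := exists_gens φ
      obtain ⟨x, hx⟩ := exists_good hZ (hZU.trans hUW) s hs
      let N := Submodule.span R (Set.range x)
      let C' := C ∩ PrimeSpectrum.zeroLocus {g : R | ∀ m : M, g • m ∈ N}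
      obtain ⟨y, hy⟩ := ih (by omega) C' (hC.inter (PrimeSpectrum.isClosed_zeroLocus _)) (by
        rintro p ⟨hpC, hp⟩
        by_contra hcon
        push Not at hcon
        have : p ∈ Z := ⟨hpC, by
          rw [Set.mem_iUnion₂]
          rintro ⟨i, hi, hpi⟩
          exact hcon i hi hpi⟩
        obtain ⟨g, hg, hgN⟩ := hx p this
        exact hg (hp hgN))
      refine ⟨Fin.append y x ∘ Fin.cast (by rw [Nat.mul_succ]), fun p hp => ?_⟩
      rw [Function.Surjective.range_comp (fun b => ⟨Fin.cast (Nat.mul_succ n k).symm b, Fin.ext rfl⟩),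
        show Set.range (Fin.append y x) = Set.range y ∪ Set.range x by
          ext z
          refine ⟨?_, ?_⟩
          · rintro ⟨a, rfl⟩
            refine Fin.addCases (fun b => Or.inl ⟨b, ?_⟩) (fun b => Or.inr ⟨b, ?_⟩) a <;> simp
          · rintro (⟨b, rfl⟩ | ⟨b, rfl⟩)
            · exact ⟨Fin.castAdd _ b, Fin.append_left _ _ _⟩
            · exact ⟨Fin.natAdd _ b, Fin.append_right _ _ _⟩]
      by_cases hp' : p ∈ C'
      · obtain ⟨g, hg, hgN⟩ := hy p hp'
        exact ⟨g, hg, fun m => Submodule.span_mono Set.subset_union_left (hgN m)⟩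
      · obtain ⟨g, hg, hgp⟩ := Set.not_subset.1 (fun h => hp' ⟨hp, h⟩)
        exact ⟨g, hgp, fun m => Submodule.span_mono Set.subset_union_right (hg m)⟩
  obtain ⟨x, hx⟩ := key m le_rfl Set.univ isClosed_univ fun p _ => by
    have : p ∈ ⨆ i, U i := hU ▸ trivial
    obtain ⟨i, hi⟩ := Opens.mem_iSup.1 this
    exact ⟨i, i.2, hi⟩
  exact ⟨x, eq_top_of_good fun p => hx p trivial⟩

end Groth.Agent.GenCount
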