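import Groth.Agent.GenCount.Basic
import Groth.Agent.NisCoverLib.Basic
import Groth.Agent.QC.PullbackTilde
import Groth.Agent.DerPerf.Local

/-! Generators of a finite module from generators of its pullback along a Nisnevich cover. -/

set_option autoImplicit false
set_option backward.isDefEq.respectTransparency false
set_option backward.isDefEq.respectTransparency.types false

universe u

open CategoryTheory CategoryTheory.Limits AlgebraicGeometry TopologicalSpace Opposite
open W4c5algebraiztannaka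

noncomputable section

namespace Groth.Agent.GenCount

variable {R : CommRingCat.{u}} {M : ModuleCat.{u} R} {n : ℕ}

theorem exists_span_of_epi [Module.Finite R M] (φ : FlatMod.freeMod (Spec R) n ⟶ tilde M) [Epi φ] :
    ∃ x : Fin n → M, Submodule.span R (Set.range x) = ⊤ := by
  let U : (Spec R).Opens := ⊤
  let F := Scheme.Modules.restrictFunctor U.ι
  let e : F.obj (FlatMod.freeMod (Spec R) n) ≅ FlatMod.freeMod (U : Scheme.{u}) n :=
    (Scheme.Modules.restrictFunctorIsoPullback U.ι).app _ ≪≫ DerPerf.pullFreeIso U.ι n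
  have : Epi (F.map φ) := inferInstance
  obtain ⟨W, hUW, s, hs⟩ := exists_gens (U := U) (e.inv ≫ F.map φ)
  obtain ⟨x, hx⟩ := exists_good isClosed_univ (fun p _ => hUW trivial) s hs
  exact ⟨x, eq_top_of_good fun p => hx p trivial⟩

theorem exists_lifts_of_factor [Module.Finite R M] {U : Scheme.{u}} (f : U ⟶ Spec R)
    (φ : FlatMod.freeMod U n ⟶ (Scheme.Modules.pullback f).obj (tilde M)) [Epi φ]
    (I : Ideal R) (h : Spec (CommRingCat.of (R ⧸ I)) ⟶ U)
    (hh : h ≫ f = Spec.map (CommRingCat.ofHom (Ideal.Quotient.mk I))) :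
    ∃ x : Fin n → M, ∀ p : PrimeSpectrum R, I ≤ p.asIdeal →
      Good (Submodule.span R (Set.range x)) p := by
  let S := CommRingCat.of (R ⧸ I)
  let q : R ⟶ S := CommRingCat.ofHom (Ideal.Quotient.mk I)
  let e : (Scheme.Modules.pullback h).obj ((Scheme.Modules.pullback f).obj (tilde M)) ≅
      tilde ((ModuleCat.extendScalars.{u, u, u} q.hom).obj M) :=
    (Scheme.Modules.pullbackComp h f).app (tilde M) ≪≫
      (Scheme.Modules.pullbackCongr hh).app (tilde M) ≪≫ (Groth.Agent.QC.pullbackTildeIso q).app M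
  letI : Algebra R S := q.hom.toAlgebra
  haveI : Module.Finite S ((ModuleCat.extendScalars.{u, u, u} q.hom).obj M) :=
    inferInstanceAs (Module.Finite S (TensorProduct R S M))
  let ψ : FlatMod.freeMod (Spec S) n ⟶ tilde ((ModuleCat.extendScalars.{u, u, u} q.hom).obj M) :=
    (DerPerf.pullFreeIso h n).inv ≫ (Scheme.Modules.pullback h).map φ ≫ e.hom
  have : Epi ψ := inferInstance
  obtain ⟨z, hz⟩ := exists_span_of_epi ψ
  change Fin n → TensorProduct R S M at z
  have hsurj : Function.Surjective fun m : M => (1 : S) ⊗ₜ[R] m := by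
    intro t
    induction t using TensorProduct.induction_on with
    | zero => exact ⟨0, TensorProduct.tmul_zero _ _⟩
    | tmul a m =>
      obtain ⟨r, rfl⟩ := Ideal.Quotient.mk_surjective a
      refine ⟨r • m, ?_⟩
      show (1 : S) ⊗ₜ[R] (r • m) = _
      rw [← TensorProduct.smul_tmul, Algebra.smul_def, mul_one]
      rfl
    | add a b ha hb =>
      obtain ⟨x, hx⟩ := ha
      obtain ⟨y, hy⟩ := hb
      exact ⟨x + y, by show (1 : S) ⊗ₜ[R] (x + y) = _; rw [TensorProduct.tmul_add]; exact congrArg₂ _ hx hy⟩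
  choose x hx using fun i => hsurj (z i)
  refine ⟨x, fun p hp => good_of_mod fun m => ⟨1, fun h1 => p.2.ne_top ((Ideal.eq_top_iff_one _).2 h1), ?_⟩⟩
  have hm : (1 : S) ⊗ₜ[R] m ∈ Submodule.span S (Set.range z) := by
    have : Submodule.span S (Set.range z) = ⊤ := hz
    rw [this]; trivial
  have key : ∀ t ∈ Submodule.span S (Set.range z), ∃ m' ∈ Submodule.span R (Set.range x),
      t = (1 : S) ⊗ₜ[R] m' := by
    intro t ht
    induction ht using Submodule.span_induction with
    | mem y hy =>
      obtain ⟨i, rfl⟩ := hy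
      exact ⟨x i, Submodule.subset_span ⟨i, rfl⟩, (hx i).symm⟩
    | zero => exact ⟨0, Submodule.zero_mem _, (TensorProduct.tmul_zero _ _).symm⟩
    | add a b _ _ ha hb =>
      obtain ⟨c, hc, rfl⟩ := ha
      obtain ⟨d, hd, rfl⟩ := hb
      exact ⟨c + d, Submodule.add_mem _ hc hd, (TensorProduct.tmul_add _ _ _).symm⟩
    | smul a y _ hy =>
      obtain ⟨c, hc, rfl⟩ := hy
      obtain ⟨r, rfl⟩ := Ideal.Quotient.mk_surjective a
      refine ⟨r • c, Submodule.smul_mem _ _ hc, ?_⟩
      rw [TensorProduct.smul_tmul', ← TensorProduct.smul_tmul, smul_eq_mul, mul_one, Algebra.smul_def r (1 : S), mul_one]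
      rfl
  obtain ⟨m', hm', he⟩ := key _ hm
  have h0 : (TensorProduct.quotTensorEquivQuotSMul M I) (Ideal.Quotient.mk I (1 : R) ⊗ₜ[R] (m - m')) = 0 := by
    have : (Ideal.Quotient.mk I (1 : R)) ⊗ₜ[R] (m - m') = (0 : TensorProduct R (R ⧸ I) M) := by
      rw [TensorProduct.tmul_sub, map_one, sub_eq_zero]; exact he
    rw [this, map_zero]
  rw [TensorProduct.quotTensorEquivQuotSMul_mk_tmul, one_smul, Submodule.Quotient.mk_eq_zero] at h0
  rw [one_smul]
  have := Submodule.add_mem_sup hm'
    (Submodule.smul_mono_left hp h0 : m - m' ∈ p.asIdeal • (⊤ : Submodule R M))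
  rwa [add_sub_cancel] at this

theorem exists_generators_nis [Module.Finite R M] {U : Scheme.{u}} (f : U ⟶ Spec R) (m : ℕ)
    (hf : IsNisCoverLen f m)
    (φ : FlatMod.freeMod U n ⟶ (Scheme.Modules.pullback f).obj (tilde M)) [Epi φ] :
    ∃ s : Fin (n * m) → M, Submodule.span R (Set.range s) = ⊤ := by
  have key : ∀ (k : ℕ) (B : Set (Spec R)), NisCoverLib.Flag f k ∅ B →
      ∃ x : Fin (n * k) → M, ∀ p ∈ B, Good (Submodule.span R (Set.range x)) p := by
    intro k
    induction k with
    | zero => intro B hB; cases hB; exact ⟨fun _ => 0, fun p hp => hp.elim⟩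
    | succ k ih =>
      rintro B ⟨C, hC, -, hBcl, -, T, g, s, hg, hr, hs⟩
      obtain ⟨y, hy⟩ := ih C hC
      let N := Submodule.span R (Set.range y)
      let K := B ∩ PrimeSpectrum.zeroLocus {a : R | ∀ m : M, a • m ∈ N}
      have hK : IsClosed K := hBcl.inter (PrimeSpectrum.isClosed_zeroLocus _)
      have hKT : K ⊆ Set.range g := by
        intro p hp
        rw [show Set.range g = B \ C from hr]
        refine ⟨hp.1, fun hpC => ?_⟩
        obtain ⟨a, ha, haN⟩ := hy p hpC
        exact ha (hp.2 haN)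
      let Z : Closeds T := ⟨g ⁻¹' K, hK.preimage g.continuous⟩
      let J := Scheme.IdealSheafData.vanishingIdeal Z
      have hrange : Set.range (J.subschemeι ≫ g) = K := by
        have : Set.range J.subschemeι = g ⁻¹' K := by
          rw [J.range_subschemeι, Scheme.IdealSheafData.coe_support_vanishingIdeal]; rfl
        rw [Scheme.Hom.comp_base, TopCat.coe_comp, Set.range_comp, this,
          Set.image_preimage_eq_inter_range, Set.inter_eq_left.2 hKT]
      have : IsClosedImmersion (J.subschemeι ≫ g) :=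
        IsClosedImmersion.of_isPreimmersion _ (by rw [hrange]; exact hK)
      obtain ⟨I, e, he⟩ := IsClosedImmersion.Spec_iff.1 this
      obtain ⟨x, hx⟩ := exists_lifts_of_factor f φ I (e.inv ≫ J.subschemeι ≫ s) (by
        simp only [Category.assoc, hs]
        rw [he, Iso.inv_hom_id_assoc])
      have hKI : ∀ p : PrimeSpectrum R, p ∈ K → I ≤ p.asIdeal := by
        intro p hp
        rw [← hrange, he] at hp
        obtain ⟨w, rfl⟩ := hp
        intro a ha
        show Ideal.Quotient.mk I a ∈ (e.hom w : PrimeSpectrum (R ⧸ I)).asIdeal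
        rw [Ideal.Quotient.eq_zero_iff_mem.2 ha]
        exact Ideal.zero_mem _
      refine ⟨Fin.append y x ∘ Fin.cast (Nat.mul_succ n k), fun p hp => ?_⟩
      rw [Function.Surjective.range_comp (fun b => ⟨Fin.cast (Nat.mul_succ n k).symm b, Fin.ext rfl⟩)]
      by_cases hpK : p ∈ K
      · obtain ⟨a, ha, haN⟩ := hx p (hKI p hpK)
        refine ⟨a, ha, fun m => Submodule.span_mono ?_ (haN m)⟩
        rintro _ ⟨b, rfl⟩; exact ⟨Fin.natAdd _ b, Fin.append_right _ _ _⟩
      · obtain ⟨a, haN, hap⟩ := Set.not_subset.1 (fun h => hpK ⟨hp, h⟩)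
        refine ⟨a, hap, fun m => Submodule.span_mono ?_ (haN m)⟩
        rintro _ ⟨b, rfl⟩; exact ⟨Fin.castAdd _ b, Fin.append_left _ _ _⟩
  obtain ⟨x, hx⟩ := key m Set.univ (NisCoverLib.flag_of_isNisCoverLen hf)
  exact ⟨x, eq_top_of_good fun p => hx p trivial⟩

end Groth.Agent.GenCount
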